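import Cfsg.Agent.H315.TF8.Inst
import Cfsg.Agent.H961.TF8.Eight
import Cfsg.Agent.H84.TF5.Big
import Cfsg.Agent.S1072

/-!
# S2452: the row `²F₄(q)` (helper315, with helpers 84, 961, 800, 83, 371)

`t52_eight` : `²F₄(8)`; `t52_2f4` : all `²F₄(q)`, `q ≥ 8`.
-/

set_option autoImplicit false
set_option linter.unusedSectionVars false

open Cfsg Cfsg.Lie

namespace Cfsg.Agent.H315.TF8

open Cfsg.Agent.ChevalleyStructure.TwF4.TwistedFix Cfsg.Agent.H588.TW
open Cfsg.Agent.ChevalleyStructure.TwF4.Twisted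

/-- **`²F₄(8)`** -/
theorem t52_eight {K : Type} [Field K] [Fintype K] (hK : Fintype.card K = 2 ^ (2 * 1 + 1)) :
    T52 ↥(twistedF4 K (2 ^ 1)) := by
  have hchar : CharP K 2 := charP_two hK
  obtain ⟨φ, hφ⟩ := exists_rln hK
  have hs : IsSimpleGroup ↥(twistedF4 K (2 ^ 1)) := (Cfsg.Agent.S1072.result le_rfl hK).1
  obtain ⟨y, hy, hkey⟩ := exists_key hK hφ
  exact H961.TF8.t52_eight_of_key hK hy hkey

/-- **the row `²F₄(q)`** -/
theorem t52_2f4 {G : Type*} [Group G] (h : Lie.Iso2F4 G) : T52 G := by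
  obtain ⟨K, _, _, m, hm, hK, ⟨e⟩⟩ := h
  rcases Nat.lt_or_ge m 2 with h2 | h2
  · have h1 : m = 1 := by omega
    subst h1
    exact (t52_eight hK).of_equiv e
  · exact (T52.of_row3 (Cfsg.Agent.H84.TF5.row3_2f4 h2 hK)).of_equiv e

end Cfsg.Agent.H315.TF8
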