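import Cfsg.Agent.H69.OctTwF
import Cfsg.Agent.S1113
import Cfsg.Agent.S1111

/-!
# The (B,N)-pair of `²F₄(q)`, explicit form (helper315, S2452)

After `H740.Eight.TwFTwo.exists_pair`, with the names of the subgroups.
-/

set_option autoImplicit false
set_option linter.unusedSectionVars false

namespace Cfsg.Agent.H315.TF8

open Cfsg.Lie
open Cfsg.Agent.ChevalleyStructure.TwF4.Tables
open Cfsg.Agent.ChevalleyStructure.TwF4.Rel
open Cfsg.Agent.ChevalleyStructure.TwF4.Groups Cfsg.Agent.ChevalleyStructure.TwF4.RankOne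
open Cfsg.Agent.ChevalleyStructure.TwF4.Twisted Cfsg.Agent.ChevalleyStructure.TwF4.TwistedFix
open Cfsg.Agent.ChevalleyStructure.TwF4.BN
open Cfsg.Agent.ChevalleyStructure.TwF4.Torus (T chi T_conj_X T_inr chi_def)
open Cfsg.Agent.ChevalleyStructure.F4NTab (ca)
open Cfsg.Agent.ChevalleyStructure.TwF4.TwGen (tc tc_mul chi_tc_24 chi_tc_25 chi_tc_33 chi_tc_27 chi28 chi30 pow_all
  n1_eq n2_eq n1_conj_T n2_conj_T)
open Cfsg.Agent.ChevalleyStructure.TwF4.TorusFix (mem_iff pow_unit T_rt rt)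
open Cfsg.Agent.ChevalleyStructure.TwF4.Fix (Fix)
open Cfsg.Agent.ChevalleyStructure.TwF4.OrderCls (X_inj)
open Cfsg.Agent.Schreier.TwFFour Cfsg.Agent.Schreier.BNSch
open Cfsg.Agent.Octagon.KSys Cfsg.Agent.Octagon.KPar Cfsg.Agent.Octagon.KRoot Cfsg.Agent.Octagon.Pkg
open Cfsg.Agent.ParSys.Fam.TwoFFour Cfsg.Agent.FixBN Cfsg.Agent.H69.OctTwF

variable {K : Type*} [Field K] [Fintype K] [CharP K 2] {e : ℕ} {φ : K →+* K}

omit [CharP K 2] in
/-- **The split (B,N)-pair of `²F₄(q)`**, explicit form, with the order of the Weyl group. -/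
theorem exists_pairG {m : ℕ} (hK : Fintype.card K = 2 ^ (2 * m + 1)) {φ : K →+* K} [CharP K 2] (hφ : Rln φ (2 ^ m)) :
    ∃ (Q : Cfsg.BNPair ↥(twistedF4 K (2 ^ m))), Q.B = B0 K (2 ^ m) ∧ FixBN.Split Q 2 (U0 K (2 ^ m)) ∧
      Q.S = {m1 K (2 ^ m), m2 hφ} ∧ (Q.B ⊓ Q.N).relIndex Q.N = 16 ∧
      Node Q (U0 K (2 ^ m)) (m1 K (2 ^ m)) (V1 K (2 ^ m)) ∧ Node Q (U0 K (2 ^ m)) (m2 hφ) (V8 K (2 ^ m)) ∧
      (V1 K (2 ^ m)).relIndex (U0 K (2 ^ m)) = 2 ^ (2 * m + 1) ∧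
      (V8 K (2 ^ m)).relIndex (U0 K (2 ^ m)) = (2 ^ (2 * m + 1)) ^ 2 ∧ Nat.card (U0 K (2 ^ m)) = (2 ^ (2 * m + 1)) ^ 12 ∧
      Nat.card ↥(Q.B ⊓ Q.N) = (2 ^ (2 * m + 1) - 1) ^ 2 := by
  have : Fact (Nat.Prime 2) := ⟨Nat.prime_two⟩
  obtain ⟨P, hPB, hPN, -, hPS⟩ := Cfsg.Agent.ChevalleyStructure.TwF4.BNIrred.exists_bnPair_irreducible hφ
  have hB : P.B = B0 K (2 ^ m) := hPB
  have hdec := dec hK hφ
  have hUp := isPGroup_U0 hK
  set s1 : ↥(twistedF4 K (2 ^ m)) := m1 K (2 ^ m) with hs1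
  set s2 : ↥(twistedF4 K (2 ^ m)) := m2 hφ with hs2
  have node_1 : Cfsg.Agent.Schreier.BNSch.Node P (U0 K (2 ^ m)) s1 (V1 K (2 ^ m)) := node1 hφ hB
  have node_2 : Cfsg.Agent.Schreier.BNSch.Node P (U0 K (2 ^ m)) s2 (V8 K (2 ^ m)) := node2 hφ hB
  have hdB : ∀ b ∈ P.B, ∃ s t : Kˣ, ∃ u ∈ U0 K (2 ^ m), b = u * tt hdec s t := by
    intro b hb
    rw [hB] at hb
    obtain ⟨s, t, u, hu, hbu⟩ := hdec.1 b hb
    exact ⟨s, t, u, hu, Subtype.ext hbu⟩
  have httB : ∀ s t : Kˣ, tt hdec s t ∈ P.B := fun s t => by rw [hB]; exact tt_B0 hdec s t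
  have httN : ∀ s t : Kˣ, tt hdec s t ∈ P.N := fun s t => by
    rw [hPN]
    exact Cfsg.Agent.ChevalleyStructure.TwF4.NStruct.T_mem_N _
  have hH : ∀ h ∈ P.B, h ∈ P.N → ∃ s t : Kˣ, h = tt hdec s t := by
    intro h hh hN
    rw [hPB, Subgroup.mem_subgroupOf] at hh
    rw [hPN, Subgroup.mem_subgroupOf] at hN
    have h1 := borel_inf_N ⟨hh, hN⟩
    obtain ⟨s, t, hst⟩ := (mem_iff hK (h : GL chevF4.Idx K)).1 ⟨h1, h.2⟩
    exact ⟨s, t, Subtype.ext hst⟩
  have hUB : U0 K (2 ^ m) ≤ P.B := by rw [hB]; exact U0_le_B0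
  have hnorm : ∀ b ∈ P.B, ∀ u ∈ U0 K (2 ^ m), b * u * b⁻¹ ∈ U0 K (2 ^ m) := fun b hb u hu => by
    rw [hB] at hb
    exact conj_U0 hb hu
  have hsplit : FixBN.Split P 2 (U0 K (2 ^ m)) :=
    { le := hUB
      norm := hnorm
      isP := hUp
      cover := fun b hb => by
        obtain ⟨s, t, u, hu, rfl⟩ := hdB b hb
        refine ⟨u, hu, ?_⟩
        rw [inv_mul_cancel_left]
        exact httN s t
      tor := ⟨2 ^ (2 * m + 1) - 1, by
        have h1 : 2 ∣ 2 ^ (2 * m + 1) := dvd_pow_self 2 (by omega)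
        have h2 : 0 < 2 ^ (2 * m + 1) := by positivity
        omega, fun h hh hN => by
        obtain ⟨s, t, rfl⟩ := hH h hh hN
        apply Subtype.ext
        show T (tc (2 ^ m) s t) ^ (2 ^ (2 * m + 1) - 1) = 1
        rw [← map_pow]
        have h2 : tc (2 ^ m) s t ^ (2 ^ (2 * m + 1) - 1) = 1 := by
          have h3 : ∀ x : Kˣ, x ^ (2 ^ (2 * m + 1) - 1) = 1 := by
            intro x
            have h4 := pow_card_eq_one' (x := x)
            rwa [Nat.card_units, Nat.card_eq_fintype_card, hK] at h4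
          funext l
          rw [Pi.pow_apply, h3]; rfl
        rw [h2, map_one]⟩
      node := by
        intro s hs
        rw [hPS] at hs
        rcases hs with rfl | hs
        · exact ⟨_, node_1⟩
        · rw [Set.mem_singleton_iff] at hs
          subst hs
          exact ⟨_, node_2⟩
      core := by
        rw [hPB, ← Subgroup.inf_subgroupOf_right]
        exact Cfsg.Agent.S1113.result hK }
  have h3 : P.B ⊓ P.N = (chevF4.diagonalSubgroup K ⊓ twistedF4 K (2 ^ m)).subgroupOf (twistedF4 K (2 ^ m)) := by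
    rw [hPB, hPN, Subgroup.inf_subgroupOf_right]
    apply le_antisymm
    · rintro x ⟨hx1, hx2⟩
      exact borel_inf_N ⟨hx1, hx2⟩
    · intro x hx
      have h4 : (x : GL chevF4.Idx K) ∈ chevF4.diagonalSubgroup K := hx
      exact ⟨(le_sup_right : _ ≤ chevF4.posUnipotent K ⊔ chevF4.diagonalSubgroup K) h4,
        (le_sup_left : chevF4.diagonalSubgroup K ≤ chevF4.monomialSubgroup K) h4⟩
  refine ⟨P, hB, hsplit, hPS, ?_, node_1, node_2, ?_, ?_, ?_, ?_⟩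
  · obtain ⟨ψ, hψ, hker⟩ := Cfsg.Agent.S1111.result hK
    have h1 : ((chevF4.diagonalSubgroup K ⊓ twistedF4 K (2 ^ m)).relIndex
        (chevF4.monomialSubgroup K ⊓ twistedF4 K (2 ^ m))) = 16 := by
      rw [Subgroup.relIndex, ← hker, Subgroup.index_ker, MonoidHom.range_eq_top.2 hψ, Subgroup.card_top]
      rw [DihedralGroup.nat_card]
    have h2 : P.N = (chevF4.monomialSubgroup K ⊓ twistedF4 K (2 ^ m)).subgroupOf (twistedF4 K (2 ^ m)) := by
      rw [hPN, Subgroup.inf_subgroupOf_right]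
    rw [h3, h2, Subgroup.relIndex_subgroupOf inf_le_right, h1]
  · rw [relIndex_V1 hφ, Nat.card_eq_fintype_card, hK]
  · rw [relIndex_V8 hφ, Nat.card_eq_fintype_card, hK]
  · rw [← Cfsg.Agent.S1090.result hK]
    have h2 : (U0 K (2 ^ m)).map (twistedF4 K (2 ^ m)).subtype = chevF4.posUnipotent K ⊓ twistedF4 K (2 ^ m) := by
      rw [U0, Subgroup.subgroupOf_map_subtype, posUnipotent_eq]
    rw [← h2]
    exact Nat.card_congr ((U0 K (2 ^ m)).equivMapOfInjective _ (Subgroup.subtype_injective _)).toEquiv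
  · rw [h3, ← Cfsg.Agent.S1110.result hK]
    exact Nat.card_congr (Subgroup.subgroupOfEquivOfLe inf_le_right).toEquiv

end Cfsg.Agent.H315.TF8
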