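import Cfsg.Agent.H315.TF8.Prin
import Cfsg.Agent.H315.TF8.Pair
import Cfsg.Agent.H961.TF8.Zero
import Cfsg.Agent.H371.TF8.Num
import Cfsg.Agent.H740.Eight.TwFTwo

/-!
# `²F₄(8)`: the two characters which do not vanish at `x` and `y` (helper315, S2452)

`key_eight` : from the value at `y`.
-/

set_option autoImplicit false
set_option linter.unusedSectionVars false

open Cfsg Cfsg.Lie

namespace Cfsg.Agent.H315.TF8

open Cfsg.Agent.LieRecognition.FeitHigmanGroup Cfsg.Agent.H315.CY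
open Cfsg.Agent.ChevalleyStructure.TwF4.TwistedFix
open Cfsg.Agent.Schreier.TwFFour Cfsg.Agent.Schreier.BNSch
open Cfsg.Agent.Octagon.KSys Cfsg.Agent.FixBN Cfsg.Agent.H315.HT

theorem kap_one : (kap (((8 : ℕ) ^ 2 : ℕ) : ℝ) ((8 : ℕ) : ℝ))⁻¹ * ((65 * (262145 * 513 * 9) : ℕ) : ℝ) =
    ((1839048 : ℕ) : ℝ) := by
  unfold kap
  norm_num

theorem kap_two : (kap ((8 : ℕ) : ℝ) (((8 : ℕ) ^ 2 : ℕ) : ℝ))⁻¹ * ((65 * (262145 * 513 * 9) : ℕ) : ℝ) =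
    ((7532740608 : ℕ) : ℝ) := by
  unfold kap
  norm_num

section main

variable {K : Type*} [Field K] [Fintype K] [CharP K 2] {φ : K →+* K}

/-- **From the value at `y`.** -/
theorem key_eight (hK : Fintype.card K = 2 ^ (2 * 1 + 1)) (hφ : Rln φ (2 ^ 1)) {Q : BNPair ↥(twistedF4 K (2 ^ 1))}
    (hsp : FixBN.Split Q 2 (U0 K (2 ^ 1))) (hS : Q.S = {m1 K (2 ^ 1), m2 hφ})
    (h16 : (Q.B ⊓ Q.N).relIndex Q.N = 16) (hV : Node Q (U0 K (2 ^ 1)) (m1 K (2 ^ 1)) (V1 K (2 ^ 1)))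
    (hV' : Node Q (U0 K (2 ^ 1)) (m2 hφ) (V8 K (2 ^ 1))) (hcV : (V1 K (2 ^ 1)).relIndex (U0 K (2 ^ 1)) = 2 ^ (2 * 1 + 1))
    (hcV' : (V8 K (2 ^ 1)).relIndex (U0 K (2 ^ 1)) = (2 ^ (2 * 1 + 1)) ^ 2)
    [Fintype ↥(twistedF4 K (2 ^ 1))] [Fintype Q.B] [Fintype (Q.parabolic {m2 hφ})] {x y : ↥(twistedF4 K (2 ^ 1))}
    (hx : orderOf x = 19)
    (hval : ∀ χ : ↥(twistedF4 K (2 ^ 1)) → ℂ, IsIrrCharacter ↥(twistedF4 K (2 ^ 1)) χ → χ x ≠ 0 →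
      χ y = 2 * ((Nat.card (Q.parabolic {m2 hφ}) : ℂ)⁻¹ * ∑ g : Q.parabolic {m2 hφ}, χ g) -
        (Nat.card Q.B : ℂ)⁻¹ * ∑ g : Q.B, χ g) :
    ∃ S₀ : IrrCharacter ↥(twistedF4 K (2 ^ 1)), ∀ χ : IrrCharacter ↥(twistedF4 K (2 ^ 1)),
      (χ : ↥(twistedF4 K (2 ^ 1)) → ℂ) x ≠ 0 → (χ : ↥(twistedF4 K (2 ^ 1)) → ℂ) y ≠ 0 →
        (χ : ↥(twistedF4 K (2 ^ 1)) → ℂ) = (fun _ => 1) ∨ χ = S₀ := by
  classical
  have h2 : Fact (Nat.Prime 2) := ⟨Nat.prime_two⟩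
  have hs : m2 hφ ∈ Q.S := by rw [hS]; exact Or.inr rfl
  have ht : m1 K (2 ^ 1) ∈ Q.S := by rw [hS]; exact Or.inl rfl
  have hqt := Cfsg.Agent.H740.Eight.HeckeDeg.q_eq hsp ht hV
  have hqs := Cfsg.Agent.H740.Eight.HeckeDeg.q_eq hsp hs hV'
  have hcB := H371.TF8.card_QB hK hφ hsp
  have hcP := H371.TF8.card_Pi hK hφ hsp hS hV'
  have hcG := H371.TF8.card_G hK
  rw [hcV] at hqt
  rw [hcV'] at hqs
  have hst : m2 hφ ≠ m1 K (2 ^ 1) := by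
    intro h
    rw [h, hqt] at hqs
    norm_num at hqs
  have hidx : Nat.card (↥(twistedF4 K (2 ^ 1)) ⧸ Q.B) = 65 * (262145 * 513 * 9) := by
    have h5 := Q.B.card_mul_index
    rw [hcG, hcB, Q.B.index_eq_card] at h5
    refine Nat.eq_of_mul_eq_mul_left (show 0 < 8 ^ 12 * 49 by norm_num) ?_
    rw [h5]
    norm_num
  have hPi : Nat.card (Q.parabolic {m2 hφ}) = (1 + q Q (m2 hφ)) * Nat.card Q.B := by
    rw [hcP, hcB, hqs]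
    norm_num
  obtain ⟨S, hS'⟩ := prin (P := Q) (s := m2 hφ) (t := m1 K (2 ^ 1)) (by rw [hS]; exact Set.pair_comm _ _) hst h16 hPi
    (r := 19) (by norm_num) (d₁ := 1839048) (d₂ := 7532740608) (by rw [hqs, hqt, hidx]; exact kap_one)
    (by rw [hqs, hqt, hidx]; exact kap_two) (by norm_num) (by norm_num)
  refine ⟨S, fun χ h1 h2 => ?_⟩
  rw [hval χ χ.2 h1] at h2
  rcases hS' χ h2 with h3 | h3 | h3
  · exact Or.inl h3
  · exact Or.inr h3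
  · refine absurd (H961.TF8.zero_of_dvd h3 ?_ (by rw [hx])) h1
    rw [hcG]
    norm_num

end main

end Cfsg.Agent.H315.TF8
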