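import Cfsg.Agent.H315.TF8.Key
import Cfsg.Agent.H315.TF8.KeyBN
import Cfsg.Agent.H800.TF8.Glue
import Cfsg.Agent.H84.TF8.Model
import Cfsg.Agent.H83.TF8.Inst
import Cfsg.Agent.H371.TF8.HyB
import Cfsg.Agent.H371.TF8.NumG

/-!
# `²F₄(8)`: the irreducible characters which do not vanish at `x` and `y` (helper315, S2452)

`exists_key` : there is `y` of order 35 such that for all `x` of order 19 only the trivial character and one more
irreducible character do not vanish at `x` and `y`.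
-/

set_option autoImplicit false
set_option linter.unusedSectionVars false

open Cfsg Cfsg.Lie

namespace Cfsg.Agent.H315.TF8

open Cfsg.Agent.SplitTwo Cfsg.Agent.SplitTwo.ZS Cfsg.Agent.TitsThree.RankTwoZ
open Cfsg.Agent.KFacts.TwF4 Cfsg.Agent.KFacts.TwF4.Inst
open Cfsg.Agent.ChevalleyStructure.TwF4.TwistedFix
open Cfsg.Agent.Schreier.TwFFour Cfsg.Agent.Schreier.BNSch
open Cfsg.Agent.Octagon.KSys Cfsg.Agent.H315.CY Cfsg.Agent.H84.GaussTwF4 Cfsg.Agent.H84.TF8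

theorem sum_sub_eq {G : Type*} [Group G] {A B : Subgroup G} (h : A = B) [Fintype A] [Fintype B] (f : G → ℂ) :
    ∑ g : A, f g = ∑ g : B, f g :=
  Fintype.sum_equiv (MulEquiv.subgroupCongr h).toEquiv _ _ fun _ => rfl

variable {K : Type} [Field K] [Fintype K] [CharP K 2] {φ : K →+* K}

/-- **the key for `²F₄(8)`** -/
theorem exists_key (hK : Fintype.card K = 2 ^ (2 * 1 + 1)) (hφ : Rln φ (2 ^ 1)) :
    ∃ y : ↥(twistedF4 K (2 ^ 1)), orderOf y = 35 ∧ ∀ x : ↥(twistedF4 K (2 ^ 1)), orderOf x = 19 →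
      ∃ S₀ : IrrCharacter ↥(twistedF4 K (2 ^ 1)), ∀ χ : IrrCharacter ↥(twistedF4 K (2 ^ 1)),
        (χ : ↥(twistedF4 K (2 ^ 1)) → ℂ) x ≠ 0 → (χ : ↥(twistedF4 K (2 ^ 1)) → ℂ) y ≠ 0 →
          (χ : ↥(twistedF4 K (2 ^ 1)) → ℂ) = (fun _ => 1) ∨ χ = S₀ := by
  classical
  have hfin : Finite ↥(twistedF4 K (2 ^ 1)) := inferInstance
  have := Fintype.ofFinite ↥(twistedF4 K (2 ^ 1))
  obtain ⟨Q, hQB, hsp, hS, h16, hV, hV', hcV, hcV', hcU, hcT⟩ := exists_pairG (m := 1) hK hφ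
  have hF : Nat.card K = 8 := by rw [Nat.card_eq_fintype_card, hK]; norm_num
  obtain ⟨y, hyP, hy, hreg⟩ := H84.TF8.exists_y (S := full hK hφ) hF
  refine ⟨y, hy, fun x hx => ?_⟩
  have hB : Q.B = Bo (full hK hφ) := Bo_eq le_rfl hK hφ hsp
  have hP : Q.parabolic {m2 hφ} = Pa (full hK hφ) := Pa_par le_rfl hK hφ hsp
  have := Fintype.ofFinite ↥(Bo (full hK hφ))
  have := Fintype.ofFinite ↥(Pa (full hK hφ))
  have := Fintype.ofFinite ↥(J (full hK hφ).XZ 1 8)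
  have := Fintype.ofFinite ↥Q.B
  have := Fintype.ofFinite ↥(Q.parabolic {m2 hφ})
  have hyB : ∀ g, g⁻¹ * y * g ∉ Bo (full hK hφ) := by rw [← hB]; exact H371.TF8.hyB hK hφ hsp hy
  have hxP : ∀ g, g⁻¹ * x * g ∉ Pa (full hK hφ) := by
    rw [← hP]; exact H371.TF8.hxP hK hφ hsp hS hV' hx
  have hn : (full hK hφ).n2 ∉ Bo (full hK hφ) := by
    intro hn
    rcases BPB hyP with h | ⟨b, hb, b', hb', h⟩
    · exact hyB 1 (by simpa using h)
    · exact hyB 1 (by rw [h]; simpa using mul_mem (mul_mem hb hn) hb')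
  refine key_eight hK hφ hsp hS h16 hV hV' hcV hcV' hx fun χ hχ hχx => ?_
  rw [sum_sub_eq hP, sum_sub_eq hB, hP, hB]
  refine key_abs (B := Bo (full hK hφ)) (P := Pa (full hK hφ)) (U := J (full hK hφ).XZ 1 8)
    (UP := J (full hK hφ).XZ 1 7) Bo_le_Pa U_le_Bo (J_mono le_rfl (by norm_num)) (fun p hp u hu => UP_normal hp hu) ?_
    ?_ n2_mem_Pa hn (fun g hg => BPB hg) hyP hreg hyB ?_ (H800.TF8.glue_e2 (full hK hφ) hn hyP hyB hxP) hχ hχx
  · intro b hb u hu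
    obtain ⟨v, hv, t, ht, rfl⟩ := hb
    have h1 := mul_mem (mul_mem hv ((full hK hφ).T_conj_J ht hu)) (inv_mem hv)
    rwa [show v * (t * u * t⁻¹) * v⁻¹ = v * t * u * (v * t)⁻¹ by group] at h1
  · rw [← hB]
    exact H371.TF8.hBU' hK hφ hsp
  · refine H800.TF8.glue_e1 (fr_model hK hφ) Bo_le_Pa U_le_Bo (J_mono le_rfl (by norm_num))
      (fun p hp => H83.TF8.pow_Pa hF hp) ?_ ?_ ?_ (H371.TF8.coprime_5461' hK) (H371.TF8.nineteen_sq_G hK) hx
    · rw [← V8_eq hK hφ]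
      exact H371.TF8.card_V8 hK hφ
    · rw [← hP]
      exact H371.TF8.nineteen_dvd hK hφ hsp hS hV'
    · rw [← hP]
      exact H371.TF8.nineteen_not_dvd hK hφ hsp hS hV'

end Cfsg.Agent.H315.TF8
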