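import Cfsg.Agent.H800.TF8.Lin
import Cfsg.Agent.CharactersDeep.LinearExt

/-!
# The value at a regular element of a parabolic subgroup (helper315, S2452, `²F₄(8)`)

* `sum_or` : the sums over a normal subgroup of an irreducible character;
* `linear_of_sum` : if `λ ∈ Irr(B)` has a nonzero sum over `U`, `B/U` abelian, then `λ` is a linear character of `B/U`;
* `key_abs` : if `χ(x) ≠ 0` then `χ(y) = 2 [χ, 1]_P - [χ, 1]_B`.
-/

set_option autoImplicit false
set_option linter.unusedSectionVars false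

open scoped ComplexConjugate
open Cfsg

namespace Cfsg.Agent.H315.TF8

open Cfsg.Agent.OddOrderCharacters.Clifford Cfsg.Agent.Characters Cfsg.Agent.H45.GG
open Cfsg.Agent.OddOrderCharacters Cfsg.Agent.H800.TF8

section sums

variable {P : Type*} [Group P]

/-- the sums of an irreducible character over the cosets of a normal subgroup -/
theorem sum_or [Finite P] {ψ : P → ℂ} (hψ : IsIrrCharacter P ψ) (N : Subgroup P) [hN : N.Normal] [Fintype N] :
    (∀ m ∈ N, ψ m = ψ 1) ∨ ∀ y, ∑ m : N, ψ (m * y) = 0 := by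
  classical
  obtain ⟨n, σ, hσ, rfl⟩ := hψ
  set S : Module.End ℂ (Fin n → ℂ) := ∑ m : N, σ (m : P) with hS
  have h1 : ∀ g : P, S * σ g = σ g * S := by
    intro g
    rw [hS, Finset.sum_mul, Finset.mul_sum]
    refine Fintype.sum_equiv (MulAut.conjNormal g⁻¹ : MulAut N).toEquiv _ _ fun m => ?_
    rw [← map_mul, ← map_mul]
    congr 1
    show (m : P) * g = g * (g⁻¹ * m * g⁻¹⁻¹)
    group
  obtain ⟨c, hc⟩ := Cfsg.Agent.CharactersDeep.InvRep.exists_smul_of_comm σ hσ S h1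
  by_cases h0 : c = 0
  · right
    intro y
    have h2 : ∑ m : N, σ.character (m * y) = LinearMap.trace ℂ _ (S * σ y) := by
      rw [hS, Finset.sum_mul, map_sum]
      refine Finset.sum_congr rfl fun m _ => ?_
      rw [← map_mul]
      rfl
    rw [h2, hc, h0, zero_smul, zero_mul, map_zero]
  · left
    intro m hm
    have h2 : S * σ m = S := by
      rw [hS, Finset.sum_mul]
      refine Fintype.sum_equiv (Equiv.mulRight (⟨m, hm⟩ : N)) _ _ fun k => ?_
      rw [← map_mul]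
      rfl
    rw [hc, smul_mul_assoc, one_mul] at h2
    have h3 : σ m = 1 := by
      have := congrArg (fun f => c⁻¹ • f) h2
      simpa only [smul_smul, inv_mul_cancel₀ h0, one_smul] using this
    show LinearMap.trace ℂ _ (σ m) = LinearMap.trace ℂ _ (σ 1)
    rw [h3, map_one σ]

end sums

section sub

variable {G : Type*} [Group G] [Finite G]

/-- the same for subgroups of `G` -/
theorem sum_or' {P N : Subgroup G} (hNP : N ≤ P) (hN : ∀ p ∈ P, ∀ u ∈ N, p * u * p⁻¹ ∈ N) [Fintype N] {ψ : P → ℂ}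
    (hψ : IsIrrCharacter P ψ) :
    (∀ (m : G) (hm : m ∈ N), ψ ⟨m, hNP hm⟩ = ψ 1) ∨ ∀ y : P, ∑ m : N, ψ (⟨m, hNP m.2⟩ * y) = 0 := by
  classical
  have : Fintype (N.subgroupOf P) := Fintype.ofFinite _
  have : (N.subgroupOf P).Normal := ⟨fun u hu g => by
    rw [Subgroup.mem_subgroupOf] at hu ⊢
    exact hN g g.2 u hu⟩
  rcases sum_or hψ (N.subgroupOf P) with h | h
  · left
    intro m hm
    exact h ⟨m, hNP hm⟩ (Subgroup.mem_subgroupOf.2 hm)
  · right
    intro y
    rw [← h y]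
    exact (Fintype.sum_equiv (Subgroup.subgroupOfEquivOfLe hNP).toEquiv _ _ fun m => rfl).symm

/-- an irreducible character of `B` with a nonzero sum over `U` is linear, if `B/U` is abelian -/
theorem linear_of_sum {B U : Subgroup G} [Fintype B] (hUB : U ≤ B) (hUn : ∀ b ∈ B, ∀ u ∈ U, b * u * b⁻¹ ∈ U)
    (hBU : ∀ b ∈ B, ∀ c ∈ B, b * c * b⁻¹ * c⁻¹ ∈ U) [Fintype U] {l : B → ℂ} (hl : IsIrrCharacter B l)
    (h : ∑ u : U, l ⟨u, hUB u.2⟩ ≠ 0) :
    ∃ μ : B →* ℂˣ, (∀ (u : G) (hu : u ∈ U), μ ⟨u, hUB hu⟩ = 1) ∧ l = lc μ := by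
  have h1 : ∀ (m : G) (hm : m ∈ U), l ⟨m, hUB hm⟩ = l 1 := by
    rcases sum_or' hUB hUn hl with h1 | h1
    · exact h1
    · exact absurd (by simpa only [mul_one] using h1 1) h
  have h2 : ∀ z p : B, l (z * p) * l 1 = l z * l p := by
    intro z p
    obtain ⟨c, hc⟩ := central_mod_ker hl (z := z) fun p => h1 _ (hBU z z.2 p p.2)
    have h3 := hc 1
    rw [mul_one] at h3
    rw [hc, h3]
    ring
  obtain ⟨n, hn, h3⟩ := Core.isIrr_apply_one hl
  have h4 : ∀ z : B, l z * conj (l z) = l 1 * l 1 := by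
    intro z
    rw [← Core.isCharacter_apply_inv (Core.isIrr_isCharacter hl), ← h2 z z⁻¹, mul_inv_cancel]
  have h5 := Core.classInner_irr_self hl
  rw [classInner_apply, Finset.sum_congr rfl fun z _ => h4 z, Finset.sum_const, Finset.card_univ, nsmul_eq_mul,
    ← mul_assoc, ← Nat.card_eq_fintype_card, inv_mul_cancel₀ (by exact_mod_cast Nat.card_pos.ne'), one_mul, h3] at h5
  have h6 : n = 1 := by
    have : n * n = 1 := by exact_mod_cast h5
    exact Nat.eq_one_of_mul_eq_one_right this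
  rw [h6, Nat.cast_one] at h3
  obtain ⟨μ, hμ⟩ := Cfsg.Agent.CharactersDeep.LinearExt.exists_hom_of_isCharacter (Core.isIrr_isCharacter hl) h3
  refine ⟨μ, fun u hu => Units.ext ?_, funext fun b => (hμ b).symm⟩
  rw [hμ, h1 u hu, h3]
  rfl

end sub

section main

variable {G : Type*} [Group G] [Fintype G]

theorem one_eq_lc {B : Type*} [Group B] : lc (1 : B →* ℂˣ) = 1 := by
  funext b
  simp [lc]

/-- the permutation character of `P` on `P/B` -/
theorem exists_theta {B P : Subgroup G} [Fintype B] [Fintype P] (hBP : B ≤ P) {n : G} (hnP : n ∈ P) (hnB : n ∉ B)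
    (hPn : ∀ g ∈ P, g ∈ B ∨ DK B B n g) {y : P} (hyB : ∀ g : G, g⁻¹ * y * g ∉ B) :
    ∃ θ : P → ℂ, IsIrrCharacter P θ ∧ θ ≠ 1 ∧ θ y = -1 ∧
      (∀ f : P → ℂ, IsCharacter P f → classInner f 1 + classInner f θ = (Nat.card B : ℂ)⁻¹ * ∑ g : B, f ⟨g, hBP g.2⟩) ∧
      ∀ ρ : P → ℂ, IsIrrCharacter P ρ → classInner (fun b : B => ρ ⟨b, hBP b.2⟩) (lc (1 : B →* ℂˣ)) ≠ 0 →
        ρ = 1 ∨ ρ = θ := by
  classical
  have : Fintype (B.subgroupOf P) := Fintype.ofFinite _
  set π := indFun (B.subgroupOf P) (lc (mP B P hBP 1)) with hπ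
  have hchar : IsCharacter P π := IndRes.isCharacter_indFun _ (Core.isIrr_isCharacter (lc_irr _))
  have hnorm := (norm_P (hBP := hBP) (μ := 1) hnP hnB hPn).2 fun _ _ _ => rfl
  have hin : ∀ f : P → ℂ, IsClassFunction P f →
      classInner f π = (Nat.card B : ℂ)⁻¹ * ∑ g : B, f ⟨g, hBP g.2⟩ := by
    intro f hf
    rw [hπ, IndRes.classInner_indFun_right _ _ hf]
    have h1 := classInner_equiv (Subgroup.subgroupOfEquivOfLe hBP) (fun b : B => f ⟨b, hBP b.2⟩) (lc (1 : B →* ℂˣ))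
    have h2 : classInner (IndRes.res (B.subgroupOf P) f) (lc (mP B P hBP 1)) =
        classInner (fun b : B => f ⟨b, hBP b.2⟩) (lc (1 : B →* ℂˣ)) := h1
    rw [h2, classInner_apply, one_eq_lc]
    simp
  have h1 : classInner (1 : P → ℂ) π = 1 := by
    rw [hin 1 (Core.isCharacter_isClassFunction Core.isCharacter_one)]
    simp only [Pi.one_apply, Finset.sum_const, Finset.card_univ, nsmul_eq_mul, mul_one]
    rw [← Nat.card_eq_fintype_card]
    exact inv_mul_cancel₀ (by exact_mod_cast Nat.card_pos.ne')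
  obtain ⟨a, b, ha, hb, hab, e⟩ := exists_two hchar hnorm
  have key : ∃ θ : P → ℂ, IsIrrCharacter P θ ∧ θ ≠ 1 ∧ π = 1 + θ := by
    rw [e, Core.classInner_add_right] at h1
    by_cases ea : (1 : P → ℂ) = a
    · exact ⟨b, hb, fun h => hab (by rw [← ea, h]), by rw [e, ea]⟩
    by_cases eb : (1 : P → ℂ) = b
    · exact ⟨a, ha, fun h => ea h.symm, by rw [e, eb, add_comm]⟩
    · rw [Core.classInner_irr_ne Core.isIrr_one ha ea, Core.classInner_irr_ne Core.isIrr_one hb eb, add_zero] at h1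
      exact absurd h1 zero_ne_one
  obtain ⟨θ, hθ, hθ1, eθ⟩ := key
  refine ⟨θ, hθ, hθ1, ?_, ?_, ?_⟩
  · have h2 : π y = 0 := IndRes.indFun_eq_zero_of_forall _ _ fun x h => hyB x (Subgroup.mem_subgroupOf.1 h)
    rw [eθ, Pi.add_apply, Pi.one_apply] at h2
    linear_combination h2
  · intro f hf
    rw [← Core.classInner_add_right, ← eθ, hin f (Core.isCharacter_isClassFunction hf)]
  · intro ρ hρ hρ1
    by_contra hc
    push Not at hc
    apply hρ1
    rw [classInner_apply, one_eq_lc]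
    have h3 := hin ρ (Core.isIrr_isClassFunction hρ)
    rw [eθ, Core.classInner_add_right, Core.classInner_irr_ne hρ Core.isIrr_one hc.1,
      Core.classInner_irr_ne hρ hθ hc.2, add_zero] at h3
    rw [h3]
    simp

/-- **The value at a regular element.** -/
theorem key_abs {B P U UP : Subgroup G} [Fintype B] [Fintype P] [Fintype U] (hBP : B ≤ P) (hUB : U ≤ B) (hUPU : UP ≤ U)
    (hUPn : ∀ p ∈ P, ∀ u ∈ UP, p * u * p⁻¹ ∈ UP) (hUn : ∀ b ∈ B, ∀ u ∈ U, b * u * b⁻¹ ∈ U)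
    (hBU : ∀ b ∈ B, ∀ c ∈ B, b * c * b⁻¹ * c⁻¹ ∈ U) {n : G} (hnP : n ∈ P) (hnB : n ∉ B)
    (hPn : ∀ g ∈ P, g ∈ B ∨ DK B B n g) {x y : G} (hyP : y ∈ P) (hreg : ∀ u ∈ UP, y * u = u * y → u = 1)
    (hyB : ∀ g : G, g⁻¹ * y * g ∉ B)
    (E1 : ∀ ρ : P → ℂ, IsIrrCharacter P ρ → (∀ (u : G) (hu : u ∈ UP), ρ ⟨u, hBP (hUB (hUPU hu))⟩ = ρ 1) →
      ∑ u : U, ρ ⟨u, hBP (hUB u.2)⟩ = 0 → ∀ χ : G → ℂ, IsIrrCharacter G χ →
      classInner (fun h : P => χ h) ρ ≠ 0 → χ x = 0)
    (E2 : ∀ μ : B →* ℂˣ, (∀ (u : G) (hu : u ∈ U), μ ⟨u, hUB hu⟩ = 1) → μ ≠ 1 → ∀ ρ : P → ℂ, IsIrrCharacter P ρ →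
      classInner (fun b : B => ρ ⟨b, hBP b.2⟩) (lc μ) ≠ 0 → ρ ⟨y, hyP⟩ ≠ 0 → ∀ χ : G → ℂ, IsIrrCharacter G χ →
      classInner (fun h : P => χ h) ρ ≠ 0 → χ x = 0)
    {χ : G → ℂ} (hχ : IsIrrCharacter G χ) (hx : χ x ≠ 0) :
    χ y = 2 * ((Nat.card P : ℂ)⁻¹ * ∑ g : P, χ g) - (Nat.card B : ℂ)⁻¹ * ∑ g : B, χ g := by
  classical
  obtain ⟨θ, hθ, hθ1, hθy, hin, hall⟩ := exists_theta hBP hnP hnB hPn (y := ⟨y, hyP⟩) hyB
  have : Finite (IrrCharacter P) := Core.finite_irr
  have := Fintype.ofFinite (IrrCharacter P)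
  have : Finite (IrrCharacter B) := Core.finite_irr
  have := Fintype.ofFinite (IrrCharacter B)
  have hUPP : UP ≤ P := fun u hu => hBP (hUB (hUPU hu))
  set f : P → ℂ := fun h : P => χ h with hf
  have hfc : IsCharacter P f := IndRes.isCharacter_res P (Core.isIrr_isCharacter hχ)
  -- the constituents which do not vanish at `y`
  have main : ∀ ρ : P → ℂ, IsIrrCharacter P ρ → classInner f ρ ≠ 0 → ρ ⟨y, hyP⟩ ≠ 0 → ρ = 1 ∨ ρ = θ := by
    intro ρ hρ hm hy
    have hker : ∀ (u : G) (hu : u ∈ UP), ρ ⟨u, hUPP hu⟩ = ρ 1 := by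
      have : Fintype UP := Fintype.ofFinite _
      rcases sum_or' hUPP hUPn hρ with h | h
      · exact h
      · exfalso
        apply hy
        -- the coset of `y` consists of conjugates of `y`
        have hinj : Function.Injective (fun v : UP => (⟨(v : G)⁻¹ * y * v * y⁻¹, by
            have h1 := hUPn y hyP v v.2
            have h2 : (v : G)⁻¹ * y * v * y⁻¹ = (v : G)⁻¹ * (y * v * y⁻¹) := by group
            rw [h2]
            exact mul_mem (inv_mem v.2) h1⟩ : UP)) := by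
          intro v w hvw
          have h1 : (v : G)⁻¹ * y * v * y⁻¹ = (w : G)⁻¹ * y * w * y⁻¹ := congrArg Subtype.val hvw
          have h2 : (v : G)⁻¹ * y * v = (w : G)⁻¹ * y * w := mul_right_cancel h1
          have h3 : y * ((v : G) * (w : G)⁻¹) = ((v : G) * (w : G)⁻¹) * y := by
            calc y * ((v : G) * (w : G)⁻¹) = (v : G) * ((v : G)⁻¹ * y * v) * (w : G)⁻¹ := by group
              _ = (v : G) * ((w : G)⁻¹ * y * w) * (w : G)⁻¹ := by rw [h2]
              _ = _ := by group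
          have h4 := hreg _ (mul_mem v.2 (inv_mem w.2)) h3
          exact Subtype.ext (mul_inv_eq_one.1 h4)
        have hbij := Finite.injective_iff_bijective.1 hinj
        have h1 := h ⟨y, hyP⟩
        rw [← hbij.sum_comp (fun m : UP => ρ (⟨m, hUPP m.2⟩ * ⟨y, hyP⟩))] at h1
        have h2 : ∀ v : UP, ρ ((⟨(v : G)⁻¹ * y * v * y⁻¹, hUPP (by
            have h1 := hUPn y hyP v v.2
            have h2 : (v : G)⁻¹ * y * v * y⁻¹ = (v : G)⁻¹ * (y * v * y⁻¹) := by group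
            rw [h2]
            exact mul_mem (inv_mem v.2) h1)⟩ : P) * ⟨y, hyP⟩) = ρ ⟨y, hyP⟩ := by
          intro v
          have h3 := Core.isIrr_isClassFunction hρ ⟨y, hyP⟩ (⟨v, hUPP v.2⟩ : P)⁻¹
          rw [← h3]
          congr 1
          apply Subtype.ext
          show (v : G)⁻¹ * y * v * y⁻¹ * y = (v : G)⁻¹ * y * ((v : G)⁻¹)⁻¹
          group
        rw [Finset.sum_congr rfl fun v _ => h2 v, Finset.sum_const, Finset.card_univ, nsmul_eq_mul] at h1
        rcases mul_eq_zero.1 h1 with h3 | h3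
        · exact absurd h3 (by exact_mod_cast Fintype.card_ne_zero)
        · exact h3
    have hU0 : ∑ u : U, ρ ⟨u, hBP (hUB u.2)⟩ ≠ 0 := fun h0 => hx (E1 ρ hρ hker h0 χ hχ hm)
    -- a constituent of the restriction to `B`
    set g : B → ℂ := fun b : B => ρ ⟨b, hBP b.2⟩ with hg
    have hgc : IsCharacter B g :=
      Core.isCharacter_comp (Subgroup.inclusion hBP) (Core.isIrr_isCharacter hρ)
    have hdec := Core.classFunction_eq_sum (Core.isCharacter_isClassFunction hgc)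
    obtain ⟨l, hl1, hl2⟩ : ∃ l : IrrCharacter B, classInner g (l : B → ℂ) ≠ 0 ∧
        ∑ u : U, (l : B → ℂ) ⟨u, hUB u.2⟩ ≠ 0 := by
      by_contra hcon
      push Not at hcon
      apply hU0
      have h1 : ∀ u : U, ρ ⟨u, hBP (hUB u.2)⟩ =
          ∑ l : IrrCharacter B, classInner g (l : B → ℂ) * (l : B → ℂ) ⟨u, hUB u.2⟩ := by
        intro u
        have h2 := congrFun hdec ⟨u, hUB u.2⟩
        rw [Finset.sum_apply] at h2
        exact h2
      rw [Finset.sum_congr rfl fun u _ => h1 u, Finset.sum_comm]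
      refine Finset.sum_eq_zero fun l _ => ?_
      rw [← Finset.mul_sum]
      by_cases h2 : classInner g (l : B → ℂ) = 0
      · rw [h2, zero_mul]
      · rw [hcon l h2, mul_zero]
    obtain ⟨μ, hμU, hμ⟩ := linear_of_sum hUB hUn hBU l.2 hl2
    rw [hμ] at hl1
    by_cases hμ1 : μ = 1
    · rw [hμ1] at hl1
      exact hall ρ hρ hl1
    · exact absurd (E2 μ hμU hμ1 ρ hρ hl1 hy χ hχ hm) hx
  -- the sum
  have hdec := congrFun (Core.classFunction_eq_sum (Core.isCharacter_isClassFunction hfc)) ⟨y, hyP⟩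
  rw [Finset.sum_apply] at hdec
  have h1 : f ⟨y, hyP⟩ = classInner f 1 - classInner f θ := by
    rw [hdec]
    set o : IrrCharacter P := ⟨1, Core.isIrr_one⟩ with ho
    set t : IrrCharacter P := ⟨θ, hθ⟩ with ht
    have hot : o ≠ t := fun h => hθ1 (congrArg Subtype.val h).symm
    rw [← Finset.sum_subset (Finset.subset_univ ({o, t} : Finset (IrrCharacter P)))]
    · rw [Finset.sum_pair hot]
      show classInner f 1 * 1 + classInner f θ * θ ⟨y, hyP⟩ = _
      rw [hθy]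
      ring
    · intro ρ _ hρ
      rw [Finset.mem_insert, Finset.mem_singleton] at hρ
      push Not at hρ
      show classInner f (ρ : P → ℂ) * (ρ : P → ℂ) ⟨y, hyP⟩ = 0
      by_contra hne
      rcases main ρ ρ.2 (left_ne_zero_of_mul hne) (right_ne_zero_of_mul hne) with h | h
      · exact hρ.1 (Subtype.ext h)
      · exact hρ.2 (Subtype.ext h)
  have h2 := hin f hfc
  have h3 : classInner f 1 = (Nat.card P : ℂ)⁻¹ * ∑ g : P, χ g := by
    rw [classInner_apply]
    simp [hf]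
  have h4 : χ y = f ⟨y, hyP⟩ := rfl
  have h5 : (Nat.card B : ℂ)⁻¹ * ∑ g : B, f ⟨g, hBP g.2⟩ = (Nat.card B : ℂ)⁻¹ * ∑ g : B, χ g := rfl
  rw [h4, h1, ← h5, ← h2, ← h3]
  ring

end main

end Cfsg.Agent.H315.TF8
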